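import Cfsg.Agent.Lib.JOneOrder.Local
import Cfsg.Agent.Lib.CosetEnum.Sound

/-!
Finite facts for the uniqueness of the first Janko group.
-/

set_option autoImplicit false
set_option Elab.async false
set_option synthInstance.maxSize 2000
set_option synthInstance.maxHeartbeats 400000

namespace CfsgLib.JOneUnique

open Cfsg Equiv CfsgLib.JOneOrder CfsgLib.CosetEnum

/-- The two basic involutions of the Klein group. -/
def va : A5 := twoSwap 0 1 2 3

/-- The second one. -/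
def vb : A5 := twoSwap 0 2 1 3

/-- The chosen involution inverting `rep 2`. -/
def p0 : A5 := twoSwap 1 2 3 4

/-- A bit of a number as an exponent. -/
def bit' (x : Fin 8) (i : ℕ) : ℕ := (x : ℕ) / 2 ^ i % 2

/-- The elements of the Sylow 2-subgroup. -/
def el (x : Fin 8) : Z2 × A5 := (zb ^ bit' x 0, va ^ bit' x 1 * vb ^ bit' x 2)

/-- The group law on the numbers. -/
def add8 (x y : Fin 8) : Fin 8 := ⟨((x : ℕ) ^^^ (y : ℕ)) % 8, Nat.mod_lt _ (by norm_num)⟩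

/-- A linear map given by three images. -/
def lin (a b c : Fin 8) (x : Fin 8) : Fin 8 :=
  add8 (add8 (if bit' x 0 = 1 then a else 0) (if bit' x 1 = 1 then b else 0))
    (if bit' x 2 = 1 then c else 0)

/-- Conjugation by `rep 2`. -/
def rot (x : Fin 8) : Fin 8 := lin 1 6 2 x

theorem el_facts : (∀ x y, el x = el y → x = y) ∧ (∀ x y, el (add8 x y) = el x * el y) ∧
    (∀ x, el (rot x) = ((1, rep 2) : Z2 × A5) * el x * (1, rep 2)⁻¹) ∧ el 0 = 1 ∧
    el 1 = (zb, 1) ∧ el 2 = (1, va) ∧ el 4 = (1, vb) := by decide +kernel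

theorem el_range : ∀ q : Z2 × A5, (q.2 = 1 ∨ q.2 = twoSwap 0 1 2 3 ∨ q.2 = twoSwap 0 2 1 3 ∨
    q.2 = twoSwap 0 3 1 2) ↔ ∃ x, el x = q := by decide +kernel

theorem cent_V : ∀ a : A5, a * va = va * a → a * vb = vb * a →
    a = 1 ∨ a = twoSwap 0 1 2 3 ∨ a = twoSwap 0 2 1 3 ∨ a = twoSwap 0 3 1 2 := by decide +kernel

theorem commutes_trivial : ∀ a b c : Fin 8, (∀ x, (lin a b c)^[7] x = x) →
    (∀ x, rot (lin a b c x) = lin a b c (rot x)) → ∀ x, lin a b c x = x := by decide +kernel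

/-- The normal form of an automorphism of order seven. -/
def f0 : Fin 8 → Fin 8 := lin 2 6 5

theorem normal_form : ∀ a b c : Fin 8, (∀ x, (lin a b c)^[7] x = x) →
    (∃ x, lin a b c x ≠ x) → (∀ x, rot (lin a b c x) = lin a b c (lin a b c (rot x))) →
    ∃ j : Fin 7, ∀ x, (lin a b c)^[(j : ℕ)] x = f0 x := by decide +kernel

/-- The outer automorphism used for the normalisation. -/
def flip5 : A5 ≃* A5 where
  toFun a := ⟨swap 0 1 * a.1 * swap 0 1, Perm.mem_alternatingGroup.mpr (by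
    rw [map_mul, map_mul, Perm.mem_alternatingGroup.mp a.2, Perm.sign_swap (by decide)]; rfl)⟩
  invFun a := ⟨swap 0 1 * a.1 * swap 0 1, Perm.mem_alternatingGroup.mpr (by
    rw [map_mul, map_mul, Perm.mem_alternatingGroup.mp a.2, Perm.sign_swap (by decide)]; rfl)⟩
  left_inv a := Subtype.ext (by simp [mul_assoc])
  right_inv a := Subtype.ext (by simp [mul_assoc])
  map_mul' a b := Subtype.ext (by simp [mul_assoc])

theorem flip5_facts : flip5 (rep 2) = (rep 2)⁻¹ ∧ ∀ a : A5,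
    (a = 1 ∨ a = twoSwap 0 1 2 3 ∨ a = twoSwap 0 2 1 3 ∨ a = twoSwap 0 3 1 2) ↔
      (flip5 a = 1 ∨ flip5 a = twoSwap 0 1 2 3 ∨ flip5 a = twoSwap 0 2 1 3 ∨
        flip5 a = twoSwap 0 3 1 2) := by
  decide +kernel

theorem p0_facts : p0 * p0 = 1 ∧ p0 ≠ 1 ∧ p0⁻¹ = p0 ∧ p0 * rep 2 * p0 = (rep 2)⁻¹ := by
  decide +kernel

theorem k_points : (zb ^ 0, p0) = ((1, c5) : Z2 × A5) * el (f0 1) * (1, c5)⁻¹ ∧
    (zb ^ 1, p0) = ((1, c5) : Z2 × A5) * el (f0^[3] 1) * (1, c5)⁻¹ := by decide +kernel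

/-- The four candidates for the element of order five. -/
def cand : Fin 4 → A5 := ![c5, (rep 2)⁻¹ * c5⁻¹, rep 2 * c5, rep 2 * c5 * (rep 2)⁻¹]

theorem cand_cases : ∀ a : A5, a ^ 5 = 1 → a ≠ 1 →
    ((el (f0^[6] 1)).2 * a * (el (f0^[6] 1)).2 = a⁻¹ →
      ∃ j : Fin 5, a = cand 0 ^ (j : ℕ) ∨ a = cand 1 ^ (j : ℕ)) ∧
    ((el (f0^[4] 1)).2 * a * (el (f0^[4] 1)).2 = a⁻¹ →
      ∃ j : Fin 5, a = cand 2 ^ (j : ℕ) ∨ a = cand 3 ^ (j : ℕ)) := by
  decide +kernel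

/-- The generators of the centralizer as numbered letters. -/
def genQ (g : ℕ) : Z2 × A5 :=
  if g = 0 then (zb, 1) else if g = 1 then (1, rep 2) else if g = 2 then (1, (rep 2)⁻¹)
    else if g = 3 then (1, c5) else if g = 4 then (1, c5⁻¹) else 1

/-- The relations of the centralizer. -/
def centW : List (List ℕ) :=
  [[0, 0], [0, 1, 0, 2], [0, 3, 0, 4], [1, 1, 1], [3, 3, 3, 3, 3],
    [1, 3, 1, 3, 1, 3, 1, 3, 1, 3], [1, 3, 3, 1, 3, 3], [2, 3, 2, 3, 2, 3],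
    [1, 3, 1, 4, 1, 3, 1, 4], [1, 1, 3, 1, 1, 3, 1, 1, 3]]

theorem centW_holds : ∀ w ∈ centW, prodW genQ w = 1 := by decide +kernel

theorem images : (el 2 : Z2 × A5) = prodW genQ [1, 3, 1, 4] ∧ el 6 = prodW genQ [1, 3, 2, 4, 1] ∧
    el 4 = prodW genQ [2, 3, 2, 4] ∧ el 5 = prodW genQ [0, 2, 3, 2, 4] := by decide +kernel

end CfsgLib.JOneUnique
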