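import Cfsg.Agent.Lib.CosetEnum.Use
import Cfsg.Agent.Lib.JOneUnique.CheckCase1
import Cfsg.Agent.Lib.JOneUnique.CheckCent

/-!
The presented group, of order at most 175560, onto which every group with the centralizer of the
first Janko group maps.
-/

set_option autoImplicit false
set_option Elab.async false
set_option linter.style.haveILetI false

namespace CfsgLib.JOneUnique

open CfsgLib.CosetEnum

/-- The letters in the free group. -/
def free4 : ℕ → FreeGroup (Fin 4)
  | 0 => FreeGroup.of 0
  | 1 => FreeGroup.of 1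
  | 2 => (FreeGroup.of 1)⁻¹
  | 3 => FreeGroup.of 2
  | 4 => (FreeGroup.of 2)⁻¹
  | 5 => FreeGroup.of 3
  | 6 => (FreeGroup.of 3)⁻¹
  | _ => 1

/-- The presented group. -/
abbrev Pres : Type := PresentedGroup {x : FreeGroup (Fin 4) | ∃ w ∈ case1.rels, prodW free4 w = x}

/-- Its letters. -/
def pgen (g : ℕ) : Pres := PresentedGroup.mk _ (free4 g)

theorem pgen_rel {w : List ℕ} (hw : w ∈ case1.rels) : prodW pgen w = 1 := by
  unfold pgen
  rw [← map_prodW]
  exact PresentedGroup.one_of_mem ⟨w, hw, rfl⟩

theorem invs_eq : case1.invs = [0, 2, 1, 4, 3, 6, 5] := rfl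

theorem free4_inv (g : ℕ) (hg : g ≠ 0) : free4 g * free4 (case1.inv g) = 1 := by
  rw [Cert.inv, invs_eq]
  match g, hg with
  | 1, _ => exact mul_inv_cancel _
  | 2, _ => exact inv_mul_cancel _
  | 3, _ => exact mul_inv_cancel _
  | 4, _ => exact inv_mul_cancel _
  | 5, _ => exact mul_inv_cancel _
  | 6, _ => exact inv_mul_cancel _
  | n + 7, _ => simp [free4]

theorem pgen_inv (g : ℕ) : pgen g * pgen (case1.inv g) = 1 := by
  by_cases hg : g = 0
  · subst hg
    have h := pgen_rel (w := [0, 0]) (by decide +kernel)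
    simpa [prodW, Cert.inv, invs_eq] using h
  · rw [pgen, pgen, ← map_mul, free4_inv g hg, map_one]

/-- The subgroup of the centralizer letters. -/
def presCent : Subgroup Pres := Subgroup.closure {y | ∃ w ∈ case1.subs, prodW pgen w = y}

theorem presModel : Model case1 presCent pgen :=
  ⟨by show PresentedGroup.mk _ (free4 7) = 1; exact map_one _, pgen_inv, fun _ hr => pgen_rel hr,
    fun w hw => Subgroup.subset_closure ⟨w, hw, rfl⟩⟩

theorem pgen_top : Subgroup.closure {y | ∃ g < case1.K, pgen g = y} = ⊤ := by
  rw [eq_top_iff, ← PresentedGroup.closure_range_of, Subgroup.closure_le]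
  rintro y ⟨i, rfl⟩
  refine Subgroup.subset_closure ?_
  match i with
  | 0 => exact ⟨0, by decide +kernel, rfl⟩
  | 1 => exact ⟨1, by decide +kernel, rfl⟩
  | 2 => exact ⟨3, by decide +kernel, rfl⟩
  | 3 => exact ⟨5, by decide +kernel, rfl⟩

/-- The letters of the centralizer alone. -/
def cgen (g : ℕ) : Pres := if g < 5 then pgen g else 1

theorem presCent_card : Finite presCent ∧ Nat.card presCent ≤ 120 := by
  have hr : ∀ w ∈ cent.rels, w ∈ case1.rels ∧ ∀ g ∈ w, g < 5 := by decide +kernel
  have m : Model cent (⊥ : Subgroup Pres) cgen :=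
    { gen_K := by
        have : cent.K = 5 := rfl
        simp [cgen, this]
      inv_mul := fun g => by
        have e : cent.invs = [0, 2, 1, 4, 3] := rfl
        match g with
        | 0 => simpa [cgen, Cert.inv, e, invs_eq] using pgen_inv 0
        | 1 => simpa [cgen, Cert.inv, e, invs_eq] using pgen_inv 1
        | 2 => simpa [cgen, Cert.inv, e, invs_eq] using pgen_inv 2
        | 3 => simpa [cgen, Cert.inv, e, invs_eq] using pgen_inv 3
        | 4 => simpa [cgen, Cert.inv, e, invs_eq] using pgen_inv 4
        | n + 5 => simp [cgen, Cert.inv, e]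
      rel := fun w hw => by
        rw [prodW_congr (gen := cgen) (gen' := pgen) fun g hg => if_pos ((hr w hw).2 g hg)]
        exact pgen_rel (hr w hw).1
      sub := fun w hw => by simp [show cent.subs = [] from rfl] at hw }
  obtain ⟨hf, hc⟩ := finite_card_le cent_complete m 1 (by rw [Subgroup.card_bot])
  have hle : presCent ≤ Subgroup.closure {y | ∃ g < cent.K, cgen g = y} := by
    refine (Subgroup.closure_le _).mpr ?_
    rintro y ⟨w, hw, rfl⟩
    have hs : case1.subs = [[0], [1], [3]] := rfl
    rw [hs] at hw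
    simp only [List.mem_cons, List.not_mem_nil, or_false] at hw
    rcases hw with rfl | rfl | rfl
    · exact Subgroup.subset_closure ⟨0, by decide +kernel, by simp [cgen, prodW]⟩
    · exact Subgroup.subset_closure ⟨1, by decide +kernel, by simp [cgen, prodW]⟩
    · exact Subgroup.subset_closure ⟨3, by decide +kernel, by simp [cgen, prodW]⟩
  haveI := hf
  refine ⟨Finite.of_injective _ (Subgroup.inclusion_injective hle), ?_⟩
  refine (Subgroup.card_le_of_le hle).trans (hc.trans (le_of_eq ?_))
  rfl

theorem pres_bound : Finite Pres ∧ Nat.card Pres ≤ 175560 := by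
  haveI := presCent_card.1
  obtain ⟨hf, hc⟩ := finite_card_le case1_complete presModel 120 presCent_card.2
  rw [pgen_top] at hf hc
  exact ⟨haveI := hf; Finite.of_equiv _ Subgroup.topEquiv.toEquiv,
    by rw [← Nat.card_congr Subgroup.topEquiv.toEquiv]; exact hc.trans (le_of_eq rfl)⟩

instance : Finite Pres := pres_bound.1

end CfsgLib.JOneUnique
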