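import Cfsg.Agent.Lib.JOneOrder.Local5
import Cfsg.Agent.Lib.JOneUnique.Facts

/-!
An element of order seven in the normalizer of a Sylow 2-subgroup, in normal form.
-/

set_option autoImplicit false
set_option Elab.async false
set_option linter.style.haveILetI false

namespace CfsgLib.JOneUnique

open Cfsg Equiv CfsgLib.JOneOrder

theorem el_decomp : (∀ x, el x = el 1 ^ bit' x 0 * el 2 ^ bit' x 1 * el 4 ^ bit' x 2) ∧
    ∀ a b c x, el (lin a b c x) = el a ^ bit' x 0 * el b ^ bit' x 1 * el c ^ bit' x 2 := by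
  decide +kernel

theorem order_facts : (∀ x, el x * el x = 1) ∧ (∀ b : Fin 7, (b : ℕ) * b * b % 7 = 1 →
    (b : ℕ) = 1 ∨ (b : ℕ) = 2 ∨ (b : ℕ) = 4) := by decide +kernel

variable {G : Type*} [Group G] (h : Hyp G)

/-- The image of a member of the Sylow 2-subgroup. -/
def es (x : Fin 8) : G := h.emb (el x)

theorem es_inj {x y : Fin 8} (e : es h x = es h y) : x = y :=
  el_facts.1 x y (h.emb_injective e)

theorem es_one : es h 1 = h.t := by rw [es, el_facts.2.2.2.2.1, h.emb_zb]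

/-- An element mapping the four-by-two group to itself acts linearly. -/
theorem exists_lin {n : G} (hn : ∀ x, ∃ y, n * es h x * n⁻¹ = es h y) :
    ∃ a b c, ∀ x, n * es h x * n⁻¹ = es h (lin a b c x) := by
  obtain ⟨a, ha⟩ := hn 1
  obtain ⟨b, hb⟩ := hn 2
  obtain ⟨c, hc⟩ := hn 4
  refine ⟨a, b, c, fun x => ?_⟩
  unfold es at ha hb hc ⊢
  rw [el_decomp.1 x, el_decomp.2, map_mul, map_mul, map_mul, map_mul, map_pow, map_pow, map_pow,
    map_pow, map_pow, map_pow, ← ha, ← hb, ← hc, conj_pow, conj_pow, conj_pow]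
  group

theorem iterate_conj {n : G} {L : Fin 8 → Fin 8} (hL : ∀ x, n * es h x * n⁻¹ = es h (L x)) :
    ∀ (j : ℕ) (x : Fin 8), n ^ j * es h x * (n ^ j)⁻¹ = es h (L^[j] x)
  | 0, x => by simp
  | j + 1, x => by
    rw [Function.iterate_succ_apply', ← hL, ← iterate_conj hL j x, pow_succ']
    group

theorem cent_es {z : G} (hz : ∀ x, Commute (es h x) z) : ∃ x, es h x = z := by
  obtain ⟨⟨b, a⟩, rfl⟩ := h.exists_emb (es_one h ▸ hz 1)
  have e : ∀ x, (el x).2 * a = a * (el x).2 := fun x =>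
    congrArg Prod.snd (h.emb_injective (a₁ := el x * (b, a)) (a₂ := (b, a) * el x) (by
      rw [map_mul, map_mul]; exact (hz x).eq))
  have h2 := e 2
  have h4 := e 4
  rw [el_facts.2.2.2.2.2.1] at h2
  rw [el_facts.2.2.2.2.2.2] at h4
  obtain ⟨x, hx⟩ := (el_range (b, a)).mp (cent_V a h2.symm h4.symm)
  exact ⟨x, by rw [es, hx]⟩

theorem es_sq (x : Fin 8) : es h x * es h x = 1 := by
  rw [es, ← map_mul, order_facts.1, map_one]

theorem rot_conj (x : Fin 8) :
    h.emb (1, rep 2) * es h x * (h.emb (1, rep 2))⁻¹ = es h (rot x) := by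
  rw [es, es, el_facts.2.2.1, map_mul, map_mul, map_inv]

/-- Normalising the element. -/
theorem normalise {n : G} (hn7 : orderOf n = 7) (hn : ∀ x, ∃ y, n * es h x * n⁻¹ = es h y)
    (hr : h.emb (1, rep 2) * n * (h.emb (1, rep 2))⁻¹ = n ^ 2) :
    ∃ m : G, orderOf m = 7 ∧ h.emb (1, rep 2) * m * (h.emb (1, rep 2))⁻¹ = m ^ 2 ∧
      ∀ x, m * es h x * m⁻¹ = es h (f0 x) := by
  obtain ⟨a, b, c, hL⟩ := exists_lin h hn
  have hit := iterate_conj h hL
  have h7 : n ^ 7 = 1 := by rw [← hn7, pow_orderOf_eq_one]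
  have hL7 : ∀ x, (lin a b c)^[7] x = x := fun x => es_inj h (by rw [← hit, h7]; group)
  have hne : ∃ x, lin a b c x ≠ x := by
    by_contra hid
    push_neg at hid
    obtain ⟨x, hx⟩ := cent_es h (z := n) fun x => by
      have := hL x
      rw [hid, mul_inv_eq_iff_eq_mul] at this
      exact this.symm
    have h2 := orderOf_dvd_of_pow_eq_one (show n ^ 2 = 1 by rw [← hx, pow_two]; exact es_sq h x)
    rw [hn7] at h2
    norm_num at h2
  have hrot : ∀ x, rot (lin a b c x) = lin a b c (lin a b c (rot x)) := fun x => es_inj h (by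
    rw [← rot_conj h, ← hL x, show lin a b c (lin a b c (rot x)) = (lin a b c)^[2] (rot x) from rfl,
      ← hit, ← rot_conj h, ← hr]
    group)
  obtain ⟨j, hj⟩ := normal_form a b c hL7 hne hrot
  refine ⟨n ^ (j : ℕ), ?_, ?_, fun x => by rw [hit, hj]⟩
  · haveI : Fact (Nat.Prime 7) := ⟨by norm_num⟩
    refine orderOf_eq_prime (by rw [← pow_mul, mul_comm, pow_mul, h7, one_pow]) fun e => ?_
    have h1 := hit (j : ℕ) 1
    rw [e, one_mul, inv_one, mul_one, hj] at h1
    exact absurd (es_inj h h1) (by decide +kernel)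
  · rw [← conj_pow, hr, ← pow_mul, ← pow_mul, mul_comm]

/-- The coordinates changed by the outer automorphism. -/
def flipHyp : Hyp G := ⟨h.t, h.two, h.e.trans ((MulEquiv.refl Z2).prodCongr flip5)⟩

theorem flip_emb (q : Z2 × A5) : (flipHyp h).emb q = h.emb (q.1, flip5 q.2) := rfl

variable [Finite G] [IsSimpleGroup G]

include h in
/-- The normal form exists. -/
theorem exists_seven : ∃ (h' : Hyp G) (n : G), h'.t = h.t ∧ orderOf n = 7 ∧
    h'.emb (1, rep 2) * n * (h'.emb (1, rep 2))⁻¹ = n ^ 2 ∧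
    ∀ x, n * es h' x * n⁻¹ = es h' (f0 x) := by
  haveI : Fact (Nat.Prime 2) := ⟨Nat.prime_two⟩
  haveI : Fact (Nat.Prime 3) := ⟨Nat.prime_three⟩
  haveI : Fact (Nat.Prime 7) := ⟨by norm_num⟩
  obtain ⟨S, eS, hS8⟩ := h.sylow_facts
  have memS : ∀ z, z ∈ (S : Subgroup G) ↔ ∃ x, es h x = z := by
    intro z
    rw [eS]
    constructor
    · rintro ⟨q, hq, rfl⟩
      obtain ⟨x, rfl⟩ := (el_range q).mp hq
      exact ⟨x, rfl⟩
    · rintro ⟨x, rfl⟩
      exact ⟨el x, (el_range _).mpr ⟨x, rfl⟩, rfl⟩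
  set N := Subgroup.normalizer ((S : Subgroup G) : Set G) with hN
  obtain ⟨r, hr⟩ : ∃ r, r = h.emb (1, rep 2) := ⟨_, rfl⟩
  have hrN : r ∈ N := mem_normalizer_of_conj fun z hz => by
    obtain ⟨x, rfl⟩ := (memS z).mp hz
    exact (memS _).mpr ⟨rot x, by rw [hr, rot_conj]⟩
  have hker : Nat.card (EightSylow.act S).ker = 8 := by
    have e : Subgroup.centralizer ((S : Subgroup G) : Set G) = (S : Subgroup G) := by
      refine le_antisymm (fun z hz => (memS z).mpr (cent_es h fun x => ?_)) fun z hz => ?_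
      · exact Subgroup.mem_centralizer_iff.mp hz _ ((memS _).mpr ⟨x, rfl⟩)
      · exact Subgroup.mem_centralizer_iff.mpr fun w hw => (h.comm_sq hw hz).eq
    rw [EightSylow.act_ker, e, Nat.card_congr (Subgroup.subgroupOfEquivOfLe Subgroup.le_normalizer).toEquiv, hS8]
  have hrange : Nat.card (EightSylow.act S).range = 21 := by
    rcases EightSylow.automizer_cases h.not_comm S h.elementary.1 hS8 with h7 | ⟨h21, -⟩
    · exfalso
      have h3 : EightSylow.act S ⟨r, hrN⟩ ^ 3 = 1 := by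
        rw [← map_pow, show (⟨r, hrN⟩ : N) ^ 3 = 1 from Subtype.ext (show r ^ 3 = 1 by
          rw [hr, ← map_pow, Prod.pow_mk, one_pow, rep_facts.2.2.2.2.2.2.1,
            Prod.mk_one_one, map_one]), map_one]
      have hne : EightSylow.act S ⟨r, hrN⟩ ≠ 1 := by
        intro e1
        have := congrArg Subtype.val (DFunLike.congr_fun e1 ⟨es h 2, (memS _).mpr ⟨2, rfl⟩⟩)
        rw [EightSylow.act_apply] at this
        have h6 : rot 2 = 2 := es_inj h (by rw [← rot_conj h, ← hr]; exact this)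
        exact absurd h6 (by decide +kernel)
      have hd := orderOf_dvd_natCard (⟨EightSylow.act S ⟨r, hrN⟩, MonoidHom.mem_range.mpr ⟨_, rfl⟩⟩ :
        (EightSylow.act S).range)
      rw [Subgroup.orderOf_mk, orderOf_eq_prime h3 hne, h7] at hd
      norm_num at hd
    · exact h21
  have hNc : Nat.card N = 168 := by
    rw [← (EightSylow.act S).ker.card_mul_index, Subgroup.index_ker, hker, hrange]
  obtain ⟨Q₀⟩ : Nonempty (Sylow 7 N) := inferInstance
  have hQ : ∀ Q : Sylow 7 N, Nat.card (Q : Subgroup N) = 7 := fun Q => by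
    rw [Q.card_eq_multiplicity, hNc, show (168 : ℕ) = 7 * 24 by norm_num,
      Nat.factorization_mul (by norm_num) (by norm_num), Finsupp.add_apply,
      Nat.Prime.factorization_self (by norm_num), Nat.factorization_eq_zero_of_not_dvd (by norm_num)]
    norm_num
  have h3Q : ¬ 3 ∣ Nat.card (Sylow 7 N) := by
    have h1 := card_sylow_modEq_one 7 N
    have h2 := Q₀.card_dvd_index
    have h3 := (Q₀ : Subgroup N).card_mul_index
    rw [hQ, hNc] at h3
    rw [show (Q₀ : Subgroup N).index = 24 by omega] at h2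
    have key : ∀ w : Fin 25, (w : ℕ) ∣ 24 → (w : ℕ) % 7 = 1 → ¬ 3 ∣ (w : ℕ) := by decide
    exact key ⟨_, Nat.lt_succ_of_le (Nat.le_of_dvd (by norm_num) h2)⟩ h2 h1
  let rN : N := ⟨r, hrN⟩
  have hp : IsPGroup 3 (Subgroup.zpowers rN) := by
    refine IsPGroup.of_card (n := 1) ?_
    rw [Nat.card_zpowers, ← orderOf_injective N.subtype Subtype.val_injective, pow_one]
    show orderOf r = 3
    rw [hr, orderOf_injective _ h.emb_injective]
    exact orderOf_eq_prime (Prod.ext (one_pow 3) rep_facts.2.2.2.2.2.2.1)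
      fun e => rep_facts.2.2.2.2.2.2.2.1 (congrArg Prod.snd e)
  obtain ⟨Q, hfix⟩ := hp.nonempty_fixed_point_of_prime_not_dvd_card (Sylow 7 N) h3Q
  have hrQ : rN ∈ Subgroup.normalizer ((Q : Subgroup N) : Set N) :=
    Sylow.smul_eq_iff_mem_normalizer.mp (hfix ⟨rN, Subgroup.mem_zpowers rN⟩)
  obtain ⟨q, hq⟩ := exists_prime_orderOf_dvd_card' 7 (show 7 ∣ Nat.card (Q : Subgroup N) by rw [hQ])
  rw [← orderOf_injective (Q : Subgroup N).subtype Subtype.val_injective] at hq
  have hqo : orderOf (((q : N)) : G) = 7 :=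
    (orderOf_injective N.subtype Subtype.val_injective _).trans hq
  have hz : Subgroup.zpowers (q : N) = (Q : Subgroup N) :=
    Subgroup.eq_of_le_of_card_ge (Subgroup.zpowers_le.mpr q.2)
      (le_of_eq (by rw [hQ, Nat.card_zpowers]; exact hq.symm))
  have hconj := (Subgroup.mem_normalizer_iff.mp hrQ (q : N)).mp q.2
  have hconj' : rN * (q : N) * rN⁻¹ ∈ Subgroup.zpowers (q : N) := by rw [hz]; exact hconj
  obtain ⟨k, hk⟩ := mem_powers_iff_mem_zpowers.mpr hconj'
  obtain ⟨n, hn⟩ : ∃ n, n = ((q : N) : G) := ⟨_, rfl⟩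
  have hn7 : orderOf n = 7 := hn ▸ hqo
  have h7 : n ^ 7 = 1 := by rw [← hn7, pow_orderOf_eq_one]
  have hk' : r * n * r⁻¹ = n ^ (k % 7) := by
    rw [← pow_eq_pow_mod k h7, hn]
    have := congrArg Subtype.val hk
    simpa [rN] using this.symm
  have hnS : ∀ x, ∃ y, n * es h x * n⁻¹ = es h y := fun x => by
    obtain ⟨y, hy⟩ := (memS _).mp ((Subgroup.mem_normalizer_iff.mp (hn ▸ (q : N).2) _).mp
      ((memS _).mpr ⟨x, rfl⟩))
    exact ⟨y, hy.symm⟩
  have hk3 : n ^ ((k % 7) * (k % 7) * (k % 7)) = n ^ 1 := by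
    rw [pow_mul, pow_mul, pow_one, ← hk', conj_pow, ← hk', conj_pow, conj_pow, ← hk']
    have h3 : r ^ 3 = 1 := by
      rw [hr, ← map_pow, Prod.pow_mk, one_pow, rep_facts.2.2.2.2.2.2.1, Prod.mk_one_one, map_one]
    calc r * (r * (r * n * r⁻¹) * r⁻¹) * r⁻¹ = r ^ 3 * n * (r ^ 3)⁻¹ := by
          simp only [pow_succ, pow_zero, one_mul, mul_inv_rev, mul_assoc]
      _ = n := by rw [h3]; group
  have hm := pow_eq_pow_iff_modEq.mp hk3
  rw [hn7] at hm
  rcases order_facts.2 ⟨k % 7, Nat.mod_lt _ (by norm_num)⟩ hm with e | e | e <;>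
    simp only at e <;> rw [e] at hk'
  · exfalso
    rw [pow_one] at hk'
    obtain ⟨a, b, c, hL⟩ := exists_lin h hnS
    have hid := commutes_trivial a b c
      (fun x => es_inj h (by rw [← iterate_conj h hL, h7]; group))
      (fun x => es_inj h (by
        rw [← rot_conj h, ← hL, ← hL, ← rot_conj h, ← hr]
        calc r * (n * es h x * n⁻¹) * r⁻¹
            = (r * n * r⁻¹) * (r * es h x * r⁻¹) * (r * n * r⁻¹)⁻¹ := by group
          _ = _ := by rw [hk']))
    obtain ⟨x, hx⟩ := cent_es h (z := n) fun x => by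
      have := hL x
      rw [hid, mul_inv_eq_iff_eq_mul] at this
      exact this.symm
    have h2 := orderOf_dvd_of_pow_eq_one (show n ^ 2 = 1 by rw [← hx, pow_two]; exact es_sq h x)
    rw [hn7] at h2
    norm_num at h2
  · obtain ⟨m, m1, m2, m3⟩ := normalise h hn7 hnS (hr ▸ hk')
    exact ⟨h, m, rfl, m1, m2, m3⟩
  · have hflip : (flipHyp h).emb (1, rep 2) = r⁻¹ := by
      rw [flip_emb, flip5_facts.1, hr, ← map_inv, Prod.inv_mk, inv_one]
    have hr2 : r⁻¹ * n * r⁻¹⁻¹ = n ^ 2 := by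
      have h1 : r * n ^ 2 * r⁻¹ = n := by
        rw [← conj_pow, hk', ← pow_mul, pow_eq_pow_mod _ h7, show 4 * 2 % 7 = 1 from rfl, pow_one]
      calc r⁻¹ * n * r⁻¹⁻¹ = r⁻¹ * (r * n ^ 2 * r⁻¹) * r := by rw [h1, inv_inv]
        _ = n ^ 2 := by group
    have hnS' : ∀ x, ∃ y, n * es (flipHyp h) x * n⁻¹ = es (flipHyp h) y := by
      have inv : ∀ x, ∃ y, (el y).1 = (el x).1 ∧ (el y).2 = flip5 (el x).2 := fun x => by
        obtain ⟨y, hy⟩ := (el_range ((el x).1, flip5 (el x).2)).mp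
          ((flip5_facts.2 (el x).2).mp ((el_range _).mpr ⟨x, rfl⟩))
        exact ⟨y, by rw [hy], by rw [hy]⟩
      have invo : ∀ a : A5, flip5 (flip5 a) = a := flip5.left_inv
      intro x
      obtain ⟨x', hx1, hx2⟩ := inv x
      have ex : es (flipHyp h) x = es h x' := by
        rw [es, es, flip_emb]; exact congrArg h.emb (Prod.ext hx1.symm hx2.symm)
      obtain ⟨y, hy⟩ := hnS x'
      obtain ⟨y', hy1, hy2⟩ := inv y
      refine ⟨y', ?_⟩
      rw [ex, hy, es, es, flip_emb]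
      exact congrArg h.emb (Prod.ext hy1.symm (by rw [hy2, invo]))
    obtain ⟨m, m1, m2, m3⟩ := normalise (flipHyp h) hn7 hnS' (by rw [hflip]; exact hr2)
    exact ⟨flipHyp h, m, rfl, m1, m2, m3⟩

end CfsgLib.JOneUnique
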