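import Cfsg.Agent.Lib.JOneOrder.Local5
import Cfsg.Agent.Lib.JOneUnique.Facts

/-!
An element of order five commuting with the element of order three.
-/

set_option autoImplicit false
set_option Elab.async false
set_option linter.style.haveILetI false

namespace CfsgLib.JOneUnique

open Cfsg Equiv CfsgLib.JOneOrder

theorem four_facts : ∀ q : Z2 × A5, (q.2 = 1 ∨ q.2 = p0) →
    q * q = 1 ∧ (q * (1, rep 2) * q⁻¹ = (1, rep 2) ∨ q * (1, rep 2) * q⁻¹ = (1, rep 2)⁻¹) := by
  decide +kernel

theorem four_count : ((Finset.univ : Finset (Z2 × A5)).filter fun q =>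
    q.2 = 1 ∨ q.2 = p0).card = 4 := by decide +kernel

variable {G : Type*} [Group G] (h : Hyp G)

/-- The four group inverting the element of order three. -/
def four3 : Subgroup G :=
  Subgroup.map h.emb
    { carrier := {q : Z2 × A5 | q.2 = 1 ∨ q.2 = p0}
      one_mem' := Or.inl rfl
      mul_mem' := by
        rintro ⟨-, a⟩ ⟨-, b⟩ (rfl | rfl) (rfl | rfl)
        · exact Or.inl (one_mul _)
        · exact Or.inr (one_mul _)
        · exact Or.inr (mul_one _)
        · exact Or.inl p0_facts.1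
      inv_mem' := by
        rintro ⟨-, a⟩ (rfl | rfl)
        · exact Or.inl inv_one
        · exact Or.inr p0_facts.2.2.1 }

theorem four3_mem (b : Z2) {a : A5} (ha : a = 1 ∨ a = p0) : h.emb (b, a) ∈ four3 h :=
  ⟨(b, a), ha, rfl⟩

theorem four3_card : Nat.card (four3 h) = 4 := by
  rw [four3, Subgroup.card_map_of_injective h.emb_injective, ← four_count,
    ← Fintype.card_subtype, ← Nat.card_eq_fintype_card]
  rfl

theorem four3_act {e : G} (he : e ∈ four3 h) : e * e = 1 ∧
    (e * h.emb (1, rep 2) * e⁻¹ = h.emb (1, rep 2) ∨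
      e * h.emb (1, rep 2) * e⁻¹ = (h.emb (1, rep 2))⁻¹) := by
  obtain ⟨q, hq, rfl⟩ := he
  obtain ⟨h1, h2 | h2⟩ := four_facts q hq
  · exact ⟨by rw [← map_mul, h1, map_one], Or.inl (by rw [← map_inv, ← map_mul, ← map_mul, h2])⟩
  · exact ⟨by rw [← map_mul, h1, map_one],
      Or.inr (by rw [← map_inv, ← map_mul, ← map_mul, h2, map_inv])⟩

variable [Finite G] [IsSimpleGroup G]

include h in
/-- The element of order five. -/
theorem exists_five (hg : Nat.card G = 175560) : ∃ (z : Fin 2) (y : G), orderOf y = 5 ∧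
    Commute (h.emb (1, rep 2)) y ∧ h.t * y * h.t = y⁻¹ ∧
    Commute (h.emb (zb ^ (z : ℕ), p0)) y := by
  haveI : Fact (Nat.Prime 2) := ⟨Nat.prime_two⟩
  haveI : Fact (Nat.Prime 3) := ⟨Nat.prime_three⟩
  haveI : Fact (Nat.Prime 5) := ⟨by norm_num⟩
  obtain ⟨r, hr⟩ : ∃ r, r = h.emb (1, rep 2) := ⟨_, rfl⟩
  obtain ⟨p, hp⟩ : ∃ p, p = h.emb (1, p0) := ⟨_, rfl⟩
  obtain ⟨w, hw⟩ : ∃ w, w = h.emb (zb, p0) := ⟨_, rfl⟩
  rw [← hr]
  have hr3 : r ^ 3 = 1 := by
    rw [hr, ← map_pow, Prod.pow_mk, one_pow, rep_facts.2.2.2.2.2.2.1, Prod.mk_one_one, map_one]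
  have hr1 : r ≠ 1 := fun e => rep_facts.2.2.2.2.2.2.2.1
    (congrArg Prod.snd (h.emb_injective ((hr ▸ e).trans (map_one _).symm)))
  have hro : orderOf r = 3 := orderOf_eq_prime hr3 hr1
  have htr : Commute h.t r := hr ▸ h.emb_comm _
  have hpp : p * p = 1 := by rw [hp, ← map_mul, Prod.mk_mul_mk, one_mul, p0_facts.1, Prod.mk_one_one, map_one]
  have hp2 : orderOf p = 2 := orderOf_eq_prime (by rw [pow_two]; exact hpp)
    fun e => p0_facts.2.1 (congrArg Prod.snd (h.emb_injective ((hp ▸ e).trans (map_one _).symm)))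
  have htp : h.t * p = w ∧ p * h.t = w := by
    refine ⟨by rw [hp, hw, h.t_mul_emb, mul_one], ?_⟩
    rw [← (hp ▸ h.emb_comm _ : Commute h.t p).eq, hp, hw, h.t_mul_emb, mul_one]
  have hw2 : orderOf w = 2 := by
    rw [hw, orderOf_injective _ h.emb_injective]
    exact orderOf_eq_prime (by rw [pow_two, Prod.mk_mul_mk, Hyp.zb_facts.1, p0_facts.1]; rfl)
      fun e => p0_facts.2.1 (congrArg Prod.snd e)
  set C := Subgroup.centralizer ({r} : Set G) with hC
  have memC : ∀ z, z ∈ C ↔ Commute r z := fun z =>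
    Subgroup.mem_centralizer_singleton_iff.trans ⟨fun e => e.symm, fun e => e.symm⟩
  have htC : h.t ∈ C := (memC _).mpr htr.symm
  have not4 : ¬ 4 ∣ Nat.card C := by
    intro h4
    have hz : IsPGroup 2 (Subgroup.zpowers (⟨h.t, htC⟩ : C)) :=
      IsPGroup.of_card (n := 1) (by rw [Nat.card_zpowers, Subgroup.orderOf_mk, h.t_order, pow_one])
    obtain ⟨T, hT⟩ := hz.exists_le_sylow
    obtain ⟨S, hS⟩ := (T.2.map C.subtype).exists_le_sylow
    have htT : h.t ∈ (T : Subgroup C).map C.subtype := ⟨_, hT (Subgroup.mem_zpowers _), rfl⟩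
    have hle : (T : Subgroup C).map C.subtype ≤ Subgroup.zpowers h.t := by
      intro z hz'
      have hzC : Commute r z := by
        obtain ⟨a, -, rfl⟩ := hz'
        exact (memC _).mp a.2
      have hsq : z * z = 1 := by
        have := (h.elementary (S := S)).1.2 _ (hS hz')
        rwa [pow_two] at this
      obtain ⟨k, rfl | rfl⟩ :=
        h.three_cent' h.t_order htr hr3 hr1 (h.comm_sq (hS htT) (hS hz')) hzC.symm
      · have h3 : 3 ∣ k + k := by
          rw [← hro]; exact orderOf_dvd_of_pow_eq_one (by rw [pow_add]; exact hsq)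
        rw [orderOf_dvd_iff_pow_eq_one.mp (by rw [hro]; omega : orderOf r ∣ k)]
        exact one_mem _
      · rw [← pow_two, (htr.pow_right k).mul_pow, pow_two h.t, h.t_sq, one_mul, ← pow_mul] at hsq
        have h3 : 3 ∣ k * 2 := by rw [← hro]; exact orderOf_dvd_of_pow_eq_one hsq
        rw [orderOf_dvd_iff_pow_eq_one.mp (by rw [hro]; omega : orderOf r ∣ k), mul_one]
        exact Subgroup.mem_zpowers _
    have h2 := Subgroup.card_dvd_of_le hle
    rw [Nat.card_zpowers, h.t_order, Subgroup.card_map_of_injective Subtype.val_injective,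
      T.card_eq_multiplicity] at h2
    have h22 : 2 ≤ (Nat.card C).factorization 2 :=
      (Nat.prime_two.pow_dvd_iff_le_factorization Nat.card_pos.ne').mp h4
    have := (pow_dvd_pow 2 h22).trans h2
    norm_num at this
  obtain ⟨m, hm⟩ : 2 ∣ Nat.card C := h.t_order ▸ C.orderOf_dvd_natCard htC
  have hmodd : ¬ 2 ∣ m := fun hd => not4 (hm ▸ Nat.mul_dvd_mul_left 2 hd)
  have hm0 : m ≠ 0 := fun e => hmodd (e ▸ dvd_zero _)
  obtain ⟨O, hOc, hO⟩ := odd_half hmodd hm
  have hOodd : ¬ 2 ∣ Nat.card O := hOc ▸ hmodd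
  have hrO : r ∈ O := (hO _).mpr ⟨(memC _).mpr (Commute.refl _), by rw [hro]; norm_num⟩
  have hE : IsPGroup 2 (four3 h) := IsPGroup.of_card (n := 2) (by rw [four3_card]; norm_num)
  have hn : four3 h ≤ Subgroup.normalizer (O : Set G) := by
    intro e he
    refine mem_normalizer_of_conj fun z hz => (hO _).mpr ⟨(memC _).mpr ?_, ?_⟩
    · have h1 := ((memC z).mp ((hO z).mp hz).1).map (MulAut.conj e).toMonoidHom
      simp only [MulEquiv.coe_toMonoidHom, MulAut.conj_apply] at h1
      obtain ⟨-, e1 | e1⟩ := four3_act h he <;> rw [← hr] at e1 <;> rw [e1] at h1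
      · exact h1
      · exact inv_inv r ▸ h1.inv_left
    · rw [show e * z * e⁻¹ = MulAut.conj e z from rfl, MulEquiv.orderOf_eq]
      exact ((hO z).mp hz).2
  have tmem : h.t ∈ four3 h := h.emb_zb ▸ four3_mem h zb (Or.inl rfl)
  have pmem : p ∈ four3 h := hp ▸ four3_mem h 1 (Or.inr rfl)
  have hcm : ∀ (k z : G), k * k = 1 → k * z * k = z → Commute k z := fun k z hk e => by
    calc k * z = k * z * k * k := by rw [mul_assoc (k * z), hk, mul_one]
      _ = z * k := by rw [e]
  -- fixed points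
  have fix120 : ∀ k z : G, orderOf k = 2 → Commute k z → orderOf z ∣ 120 := fun k z hk hz => by
    rw [← h.card_cent_inv hk]
    exact Subgroup.orderOf_dvd_natCard _ (Subgroup.mem_centralizer_singleton_iff.mpr hz.symm.eq)
  have fixt : ∀ z ∈ O, Commute h.t z → orderOf z ∣ 3 := fun z hz hc => by
    obtain ⟨hzC, hz2⟩ := (hO z).mp hz
    obtain ⟨k, rfl | rfl⟩ := h.three_cent' h.t_order htr hr3 hr1 hc ((memC _).mp hzC).symm
    · exact hro ▸ orderOf_pow_dvd k
    · exfalso
      refine hz2 ?_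
      rw [Commute.orderOf_mul_eq_mul_orderOf_of_coprime (htr.pow_right _), h.t_order]
      · exact dvd_mul_right _ _
      · rw [h.t_order]
        refine Nat.Coprime.coprime_dvd_right (hro ▸ orderOf_pow_dvd k) ?_
        norm_num
  have hd120 : ∀ q : ℕ, q.Prime → ∀ {z : G}, (∃ j, orderOf z = q ^ j) → orderOf z ∣ 120 →
      ¬ q ∣ 120 → z = 1 := by
    rintro q hq z ⟨j, hj⟩ hd hn'
    rw [← orderOf_eq_one_iff, hj]
    rcases j with _ | j
    · rfl
    · exact absurd ((dvd_pow_self q j.succ_ne_zero).trans (hj ▸ hd)) hn'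
  -- no large primes
  have hbig : ∀ q, q = 7 ∨ q = 11 ∨ q = 19 → ¬ q ∣ m := by
    intro q hq hd
    haveI : Fact q.Prime := ⟨by rcases hq with rfl | rfl | rfl <;> norm_num⟩
    have hn' : ¬ q ∣ 120 := by rcases hq with rfl | rfl | rfl <;> norm_num
    obtain ⟨R, hR⟩ := invariant_sylow hOodd hE hn q
    set R₀ := (R : Subgroup O).map O.subtype with hR₀
    have hRg : IsPGroup q R₀ := R.2.map _
    have hord : ∀ z ∈ R₀, ∃ j, orderOf z = q ^ j := fun z hz => by
      obtain ⟨j, hj⟩ := IsPGroup.iff_orderOf.mp hRg ⟨z, hz⟩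
      exact ⟨j, by rw [← hj, Subgroup.orderOf_mk]⟩
    have hzero : ∀ k, orderOf k = 2 → ∀ z ∈ R₀, k * z * k = z → z = 1 := fun k hk z hz e =>
      hd120 q (Fact.out) (hord z hz)
        (fix120 k z hk (hcm k z (by rw [← pow_two, ← hk, pow_orderOf_eq_one]) e)) hn'
    have inv2 : ∀ e ∈ four3 h, ∀ z ∈ R₀, e * z * e ∈ R₀ := fun e he z hz => by
      have := hR e he z hz
      rwa [inv_eq_of_mul_eq_one_right (four3_act h he).1] at this
    have htriv : R₀ = ⊥ := (Subgroup.eq_bot_iff_forall _).mpr fun z hz => by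
      refine hzero w hw2 z hz ?_
      have i1 : p * z * p = z⁻¹ := fpf_inverts hpp (inv2 p pmem) (hzero p hp2) hz
      have i2 : h.t * z⁻¹ * h.t = z⁻¹⁻¹ :=
        fpf_inverts h.t_sq (inv2 _ tmem) (hzero _ h.t_order) (inv_mem hz)
      calc w * z * w = (h.t * p) * z * (p * h.t) := by rw [htp.1, htp.2]
        _ = h.t * (p * z * p) * h.t := by group
        _ = z := by rw [i1, i2, inv_inv]
    have h1 : Nat.card R₀ = 1 := by rw [htriv, Subgroup.card_bot]
    rw [hR₀, Subgroup.card_map_of_injective Subtype.val_injective, R.card_eq_multiplicity, hOc] at h1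
    have h2 := ((Fact.out : q.Prime).pow_dvd_iff_le_factorization hm0).mp
      (show q ^ 1 ∣ m by rwa [pow_one])
    have := Nat.one_lt_pow (show m.factorization q ≠ 0 by omega) (Fact.out : q.Prime).one_lt
    omega
  have hm15 : m ∣ 15 := by
    have h1 : m ∣ 175560 := hg ▸ hOc ▸ Subgroup.card_subgroup_dvd_card O
    have cop : ∀ q : ℕ, q.Prime → ¬ q ∣ m → Nat.Coprime m q := fun q hq hn' =>
      ((Nat.Prime.coprime_iff_not_dvd hq).mpr hn').symm
    have c := ((((cop 2 Nat.prime_two hmodd).pow_right 3).mul_right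
      (cop 7 (by norm_num) (hbig 7 (Or.inl rfl)))).mul_right
      (cop 11 (by norm_num) (hbig 11 (Or.inr (Or.inl rfl))))).mul_right
      (cop 19 (by norm_num) (hbig 19 (Or.inr (Or.inr rfl))))
    exact c.dvd_of_dvd_mul_right (show m ∣ 15 * (2 ^ 3 * 7 * 11 * 19) by norm_num; exact h1)
  have h3m : 3 ∣ m := hro ▸ hOc ▸ O.orderOf_dvd_natCard hrO
  have h5 : 5 ∣ m := by
    by_contra h5
    have hm3 : m = 3 := Nat.dvd_antisymm
      ((((Nat.Prime.coprime_iff_not_dvd (by norm_num)).mpr h5).symm).dvd_of_dvd_mul_right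
        (show m ∣ 3 * 5 from hm15)) h3m
    -- the normaliser of the subgroup of order three has order twelve
    set Z := Subgroup.zpowers r with hZ
    set N := Subgroup.normalizer (Z : Set G) with hN
    have hpN : p ∈ N := mem_normalizer_of_conj fun z hz => by
      obtain ⟨k, rfl⟩ := hz
      rw [← conj_zpow]
      refine Subgroup.zpow_mem _ ?_ k
      obtain ⟨-, e | e⟩ := four3_act h pmem <;> rw [← hr] at e <;> rw [e]
      exacts [Subgroup.mem_zpowers r, inv_mem (Subgroup.mem_zpowers r)]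
    have hCN : C ≤ N := fun z hz => mem_normalizer_of_conj fun u hu => by
      obtain ⟨k, rfl⟩ := hu
      rw [← conj_zpow, ((memC z).mp hz).symm.eq, mul_inv_cancel_right]
      exact Subgroup.zpow_mem _ (Subgroup.mem_zpowers r) k
    have two : ∀ z ∈ N, z * r * z⁻¹ = r ∨ z * r * z⁻¹ = r⁻¹ := fun z hz => by
      obtain ⟨k, hk⟩ := mem_powers_iff_mem_zpowers.mpr
        ((Subgroup.mem_normalizer_iff.mp hz r).mp (Subgroup.mem_zpowers r))
      change r ^ k = _ at hk
      rw [← hk, pow_eq_pow_mod k hr3]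
      have : k % 3 = 0 ∨ k % 3 = 1 ∨ k % 3 = 2 := by omega
      rcases this with e | e | e <;> rw [e]
      · exfalso
        rw [pow_eq_pow_mod k hr3, e, pow_zero] at hk
        exact hr1 (conj_eq_one_iff.mp hk.symm)
      · exact Or.inl (pow_one r)
      · exact Or.inr (eq_inv_of_mul_eq_one_left (by rw [← pow_succ]; exact hr3))
    have hpr : p * r * p⁻¹ = r⁻¹ := by
      rw [inv_eq_of_mul_eq_one_right hpp, hp, hr, ← map_mul, ← map_mul, ← map_inv, Prod.mk_mul_mk,
        Prod.mk_mul_mk, one_mul, one_mul, p0_facts.2.2.2, Prod.inv_mk, inv_one]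
    have hrr : r⁻¹ ≠ r := fun e => hr1 <| by
      have h2 : r ^ 2 = 1 := by rw [pow_two]; nth_rw 1 [← e]; exact inv_mul_cancel r
      have := orderOf_dvd_of_pow_eq_one h2
      rw [hro] at this; norm_num at this
    have hidx : (C.subgroupOf N).index = 2 := by
      rw [Subgroup.index_eq_two_iff]
      refine ⟨⟨p, hpN⟩, fun b => ?_⟩
      simp only [Subgroup.mem_subgroupOf, Subgroup.coe_mul, memC]
      by_cases hb : Commute r (b : G)
      · refine Or.inr ⟨hb, fun hbp => hrr ?_⟩
        have := hb.inv_right.mul_right hbp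
        rw [inv_mul_cancel_left] at this
        rw [← hpr, this.symm.eq, mul_inv_cancel_right]
      · refine Or.inl ⟨?_, hb⟩
        have hb' : (b : G) * r * (b : G)⁻¹ = r⁻¹ := (two b b.2).resolve_left fun e =>
          hb (mul_inv_eq_iff_eq_mul.mp e).symm
        have e2 : (b : G) * p * r * ((b : G) * p)⁻¹ = r := by
          rw [show (b : G) * p * r * ((b : G) * p)⁻¹ = b * (p * r * p⁻¹) * (b : G)⁻¹ by group, hpr,
            ← conj_inv, hb', inv_inv]
        exact (mul_inv_eq_iff_eq_mul.mp e2).symm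
    have hNc : Nat.card N = 12 := by
      rw [← (C.subgroupOf N).card_mul_index, hidx,
        Nat.card_congr (Subgroup.subgroupOfEquivOfLe hCN).toEquiv, hm, hm3]
    have hf : (Nat.card G).factorization 3 = 1 := by
      rw [hg, show (175560 : ℕ) = 3 * 58520 by norm_num, Nat.factorization_mul (by norm_num) (by norm_num),
        Finsupp.add_apply, Nat.Prime.factorization_self Nat.prime_three,
        Nat.factorization_eq_zero_of_not_dvd (by norm_num)]
    let P : Sylow 3 G := Sylow.ofCard Z (by rw [Nat.card_zpowers, hro, hf, pow_one])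
    have h1 := P.card_eq_index_normalizer
    have h2 := N.card_mul_index
    rw [hg, hNc] at h2
    have h3 := card_sylow_modEq_one 3 G
    rw [h1] at h3
    change N.index ≡ 1 [MOD 3] at h3
    rw [show N.index = 14630 by omega] at h3
    exact absurd h3 (by decide)
  -- the subgroup of order five
  obtain ⟨R, hR⟩ := invariant_sylow hOodd hE hn 5
  set R₀ := (R : Subgroup O).map O.subtype with hR₀
  have inv2 : ∀ e ∈ four3 h, ∀ z ∈ R₀, e * z * e ∈ R₀ := fun e he z hz => by
    have := hR e he z hz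
    rwa [inv_eq_of_mul_eq_one_right (four3_act h he).1] at this
  have hR5 : Nat.card R₀ = 5 := by
    rw [hR₀, Subgroup.card_map_of_injective Subtype.val_injective, R.card_eq_multiplicity, hOc]
    have h1 := ((Fact.out : Nat.Prime 5).pow_dvd_iff_le_factorization hm0).mp
      (show 5 ^ 1 ∣ m by rwa [pow_one])
    have h2 : ¬ 5 ^ 2 ∣ m := fun hd => by
      have := hd.trans hm15
      norm_num at this
    rw [(Fact.out : Nat.Prime 5).pow_dvd_iff_le_factorization hm0] at h2
    rw [show m.factorization 5 = 1 by omega, pow_one]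
  obtain ⟨⟨y, hyR⟩, hy⟩ := exists_prime_orderOf_dvd_card' 5 (show 5 ∣ Nat.card R₀ by rw [hR5])
  rw [Subgroup.orderOf_mk] at hy
  have hyO : y ∈ O := Subgroup.map_subtype_le _ hyR
  have hry : Commute r y := (memC _).mp ((hO y).mp hyO).1
  have hR₀y : R₀ = Subgroup.zpowers y :=
    (Subgroup.eq_of_le_of_card_ge (Subgroup.zpowers_le.mpr hyR)
      (by rw [hR5, Nat.card_zpowers, hy])).symm
  have hyt : h.t * y * h.t = y⁻¹ := fpf_inverts h.t_sq (inv2 _ tmem) (fun z hz e => by
    have h1 := fixt z (Subgroup.map_subtype_le _ hz) (hcm _ _ h.t_sq e)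
    have h2 : orderOf z ∣ 5 := hR5 ▸ R₀.orderOf_dvd_natCard hz
    exact orderOf_eq_one_iff.mp (Nat.eq_one_of_dvd_coprimes (by norm_num : Nat.Coprime 3 5) h1 h2)) hyR
  by_cases hpy : p * y * p = y
  · exact ⟨0, y, hy, hry, hyt, by
      rw [Fin.val_zero, pow_zero, ← hp]; exact hcm _ _ hpp hpy⟩
  · refine ⟨1, y, hy, hry, hyt, ?_⟩
    have hyp : p * y * p = y⁻¹ := fpf_inverts hpp (inv2 p pmem) (fun z hz e => by
      by_contra hz1
      refine hpy ?_
      have hc := hcm _ _ hpp e
      have hzy : y ∈ Subgroup.zpowers z := by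
        have hz5 : orderOf z = 5 := ((Nat.dvd_prime (Fact.out : Nat.Prime 5)).mp
          (hR5 ▸ R₀.orderOf_dvd_natCard hz)).resolve_left fun e1 => hz1 (orderOf_eq_one_iff.mp e1)
        have := Subgroup.eq_of_le_of_card_ge (Subgroup.zpowers_le.mpr hz)
          (by rw [hR5, Nat.card_zpowers, hz5])
        exact this ▸ hyR
      obtain ⟨k, rfl⟩ := hzy
      rw [(hc.zpow_right k).eq, mul_assoc, hpp, mul_one]) hyR
    have : w * y * w = y := by
      calc w * y * w = (h.t * p) * y * (p * h.t) := by rw [htp.1, htp.2]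
        _ = h.t * (p * y * p) * h.t := by group
        _ = (h.t * y * h.t)⁻¹ := by rw [hyp, mul_inv_rev, mul_inv_rev, h.t_inv]; group
        _ = y := by rw [hyt, inv_inv]
    rw [Fin.val_one, pow_one, ← hw]
    exact hcm _ _ (by rw [← pow_two, ← hw2, pow_orderOf_eq_one]) this

end CfsgLib.JOneUnique
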