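import Cfsg.Agent.Lib.JOneOrder.Exclude
import Cfsg.Agent.Lib.JOneUnique.Sylow
import Cfsg.Agent.Lib.JOneUnique.Three
import Cfsg.Agent.Lib.JOneUnique.Pres
import Cfsg.Agent.Lib.JOneUnique.CheckCase0
import Cfsg.Agent.Lib.JOneUnique.CheckCase2
import Cfsg.Agent.Lib.JOneUnique.CheckCase3

/-!
A simple group of order 175560 with the centralizer of the first Janko group is the presented
group.
-/

set_option autoImplicit false
set_option Elab.async false
set_option linter.style.haveILetI false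

namespace CfsgLib.JOneUnique

open Cfsg Equiv CfsgLib.JOneOrder CfsgLib.CosetEnum

theorem cover : ∀ q : Z2 × A5, ∃ (x : Fin 8) (k : Fin 3) (l : Fin 5),
    q = el x * (1, rep 2) ^ (k : ℕ) * (1, c5) ^ (l : ℕ) := by decide +kernel

theorem orbit_facts : (∀ x : Fin 8, x ≠ 0 → ∃ i : Fin 7, f0^[(i : ℕ)] 1 = x) ∧
    (∀ i j : Fin 7, f0^[(i : ℕ)] 1 = f0^[(j : ℕ)] 1 → i = j) ∧ f0 1 = 2 ∧ f0 2 = 6 ∧ f0 4 = 5 ∧
    (∀ i : Fin 7, ((1, c5) : Z2 × A5) * el 2 * (1, c5)⁻¹ ≠ el (f0^[(i : ℕ)] 1)) ∧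
    (∀ x : Fin 8, ((el x)⁻¹ : Z2 × A5) = el x) := by decide +kernel

variable {G : Type*} [Group G] (h : Hyp G) (n : G)

/-- The letters in the group. -/
def gg (g : ℕ) : G := if g = 5 then n else if g = 6 then n⁻¹ else h.emb (genQ g)

theorem gg_small {w : List ℕ} (hw : ∀ g ∈ w, g < 5) :
    prodW (gg h n) w = h.emb (prodW genQ w) := by
  rw [map_prodW]
  refine prodW_congr fun g hg => ?_
  have := hw g hg
  rw [gg, if_neg (by omega), if_neg (by omega)]

/-- The relations common to the four cases. -/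
def commonW : List (List ℕ) :=
  centW ++ [[5, 5, 5, 5, 5, 5, 5], [1, 5, 2, 6, 6], [5, 0, 6, 3, 2, 4, 2],
    [5, 1, 3, 1, 4, 6, 2, 3, 1, 4, 2], [5, 2, 3, 2, 4, 6, 3, 1, 4, 1, 0]]

/-- The relation of each case. -/
def lastW : Fin 4 → List ℕ :=
  ![[1, 3, 5, 3, 6, 4, 2, 3, 5, 4, 6, 4], [1, 3, 5, 2, 4, 6, 4, 2, 3, 5, 3, 1, 6, 4],
    [1, 3, 5, 5, 5, 1, 3, 6, 6, 6, 4, 2, 3, 5, 5, 5, 4, 2, 6, 6, 6, 4],
    [1, 3, 5, 5, 5, 1, 3, 2, 6, 6, 6, 4, 2, 3, 5, 5, 5, 1, 4, 2, 6, 6, 6, 4]]

theorem rels_eq : case0.rels = commonW ++ [lastW 0] ∧ case1.rels = commonW ++ [lastW 1] ∧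
    case2.rels = commonW ++ [lastW 2] ∧ case3.rels = commonW ++ [lastW 3] := by decide +kernel

/-- The exponent of the element carrying `t` to the involution of each case. -/
def expo (z : Fin 2) : ℕ := 1 + 2 * z

theorem seven_pow (hn : orderOf n = 7) : n ^ 7 = 1 := by rw [← hn, pow_orderOf_eq_one]

variable (hn : orderOf n = 7) (hr : h.emb (1, rep 2) * n * (h.emb (1, rep 2))⁻¹ = n ^ 2)
  (hact : ∀ x, n * es h x * n⁻¹ = es h (f0 x))

include hn hr hact

theorem common_holds : ∀ w ∈ commonW, prodW (gg h n) w = 1 := by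
  intro w hw
  rcases List.mem_append.mp hw with hw | hw
  · rw [gg_small h n (fun g hg => ?_), centW_holds w hw, map_one]
    have : ∀ w ∈ centW, ∀ g ∈ w, g < 5 := by decide
    exact this w hw g hg
  · have h5 : gg h n 5 = n := rfl
    have h6 : gg h n 6 = n⁻¹ := rfl
    have hR : gg h n 1 = h.emb (1, rep 2) := rfl
    have hR' : gg h n 2 = (h.emb (1, rep 2))⁻¹ := by
      rw [← map_inv, Prod.inv_mk, inv_one]; rfl
    simp only [List.mem_cons, List.not_mem_nil, or_false] at hw
    obtain ⟨i2, i6, i4, i5⟩ := images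
    -- a conjugate of a Sylow element followed by its inverse
    have key : ∀ (x : Fin 8) (u v : List ℕ), (∀ g ∈ u, g < 5) → (∀ g ∈ v, g < 5) →
        el x = prodW genQ u → prodW genQ v = (el (f0 x))⁻¹ →
        prodW (gg h n) ([5] ++ u ++ [6] ++ v) = 1 := by
      intro x u v hu hv eu ev
      rw [prodW_append, prodW_append, prodW_append, gg_small h n hu, gg_small h n hv, ← eu, ev,
        map_inv]
      simp only [prodW_cons, prodW_nil, mul_one, h5, h6]
      exact mul_inv_eq_one.mpr (hact x)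
    rcases hw with rfl | rfl | rfl | rfl | rfl
    · simp only [prodW_cons, prodW_nil, mul_one, h5]
      simp only [← pow_succ', ← pow_two]
      exact seven_pow n hn
    · simp only [prodW_cons, prodW_nil, mul_one, h5, h6, hR, hR']
      rw [← mul_assoc, ← mul_assoc, ← mul_assoc, hr, pow_two]
      group
    · exact key 1 [0] [3, 2, 4, 2] (by decide) (by decide) (by decide +kernel) (by decide +kernel)
    · exact key 2 [1, 3, 1, 4] [2, 3, 1, 4, 2] (by decide) (by decide) i2 (by decide +kernel)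
    · exact key 4 [2, 3, 2, 4] [3, 1, 4, 1, 0] (by decide) (by decide) i4 (by decide +kernel)

/-- The last relation. -/
theorem last_holds (j : Fin 4)
    (hc : Commute (h.emb (1, rep 2)) (h.emb (1, c5) * n ^ expo (if (j : ℕ) < 2 then 0 else 1) *
      h.emb (1, cand j) * (h.emb (1, c5) * n ^ expo (if (j : ℕ) < 2 then 0 else 1))⁻¹)) :
    prodW (gg h n) (lastW j) = 1 := by
  have h5 : gg h n 5 = n := rfl
  have h6 : gg h n 6 = n⁻¹ := rfl
  have hR : gg h n 1 = h.emb (1, rep 2) := rfl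
  have hC : gg h n 3 = h.emb (1, c5) := rfl
  have hR' : gg h n 2 = (h.emb (1, rep 2))⁻¹ := by rw [← map_inv, Prod.inv_mk, inv_one]; rfl
  have hC' : gg h n 4 = (h.emb (1, c5))⁻¹ := by rw [← map_inv, Prod.inv_mk, inv_one]; rfl
  have h2 := mul_inv_eq_one.mpr (mul_inv_eq_iff_eq_mul.mpr hc.eq)
  have emul : ∀ a b : A5, h.emb (1, a * b) = h.emb (1, a) * h.emb (1, b) := fun a b => by
    rw [← map_mul, Prod.mk_mul_mk, one_mul]
  have einv : ∀ a : A5, h.emb (1, a⁻¹) = (h.emb (1, a))⁻¹ := fun a => by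
    rw [← map_inv, Prod.inv_mk, inv_one]
  fin_cases j <;>
    (simp only [lastW, cand, expo, Fin.reduceFinMk, Matrix.cons_val, Fin.isValue, Nat.reduceLT,
      Fin.val_zero, Fin.val_one, Fin.val_two, if_true, if_false, mul_zero, add_zero, mul_one,
      Nat.reduceAdd, Nat.reduceMul, pow_one, emul, einv, prodW_cons, prodW_nil, h5, h6, hR, hC,
      hR', hC'] at h2 ⊢) <;>
    refine Eq.trans ?_ h2 <;> simp [pow_succ, mul_assoc]

theorem conj_point (x : Fin 8) (i : ℕ) :
    n ^ i * es h x * (n ^ i)⁻¹ = es h (f0^[i] x) :=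
  iterate_conj h hact i x

variable [Finite G] [IsSimpleGroup G] (hg : Nat.card G = 175560)

include hg

theorem exists_case : ∃ j : Fin 4, prodW (gg h n) (lastW j) = 1 := by
  haveI : Fact (Nat.Prime 5) := ⟨by norm_num⟩
  obtain ⟨z, y, hy, hry, hyt, hyk⟩ := exists_five h hg
  obtain ⟨g, eg⟩ : ∃ g, g = h.emb (1, c5) * n ^ expo z := ⟨_, rfl⟩
  have hk : g * h.t * g⁻¹ = h.emb (zb ^ (z : ℕ), p0) := by
    rw [eg, mul_inv_rev, ← es_one h]
    simp only [mul_assoc]
    rw [← mul_assoc (n ^ expo z), ← mul_assoc (n ^ expo z * _), conj_point h n hn hr hact, es,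
      ← map_inv, ← map_mul, ← map_mul, ← mul_assoc]
    refine congrArg h.emb ?_
    fin_cases z
    · exact k_points.1.symm
    · exact k_points.2.symm
  have hcom : Commute h.t (g⁻¹ * y * g) := by
    rw [← hk] at hyk
    have := hyk.map (MulAut.conj g⁻¹).toMonoidHom
    simpa [MulAut.conj_apply, mul_assoc] using this
  obtain ⟨⟨b, a⟩, hq⟩ := h.exists_emb hcom
  have hy5 : y ^ 5 = 1 := by rw [← hy, pow_orderOf_eq_one]
  have hq5 : ((b, a) : Z2 × A5) ^ 5 = 1 := h.emb_injective (by
    rw [map_pow, hq, show g⁻¹ * y * g = g⁻¹ * y * g⁻¹⁻¹ by rw [inv_inv], conj_pow, hy5, mul_one,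
      mul_inv_cancel, map_one])
  have ha5 : a ^ 5 = 1 := congrArg Prod.snd hq5
  have hb : b = 1 := by
    have : ∀ b : Z2, b ^ 5 = 1 → b = 1 := by decide
    exact this b (congrArg Prod.fst hq5)
  subst hb
  have hyq : y = g * h.emb (1, a) * g⁻¹ := by rw [hq]; group
  have ha1 : a ≠ 1 := fun e => by
    rw [e, Prod.mk_one_one, map_one, mul_one, mul_inv_cancel] at hyq
    rw [hyq, orderOf_one] at hy
    norm_num at hy
  have hT : g⁻¹ * h.t * g = es h (f0^[7 - expo z] 1) := by
    rw [← conj_point h n hn hr hact, eg, mul_inv_rev, es_one]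
    have e7 : (n ^ expo z)⁻¹ = n ^ (7 - expo z) := by
      refine inv_eq_of_mul_eq_one_left ?_
      rw [← pow_add, show 7 - expo z + expo z = 7 by unfold expo; omega]
      exact seven_pow n hn
    have hcc := (h.emb_comm (1, c5)).eq
    calc (n ^ expo z)⁻¹ * (h.emb (1, c5))⁻¹ * h.t * (h.emb (1, c5) * n ^ expo z)
        = (n ^ expo z)⁻¹ * ((h.emb (1, c5))⁻¹ * (h.t * h.emb (1, c5))) * n ^ expo z := by group
      _ = (n ^ expo z)⁻¹ * h.t * n ^ expo z := by rw [hcc, inv_mul_cancel_left]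
      _ = _ := by rw [← e7, inv_inv]
  have hinv : (el (f0^[7 - expo z] 1)).2 * a * (el (f0^[7 - expo z] 1)).2 = a⁻¹ := by
    have e1 : es h (f0^[7 - expo z] 1) * h.emb (1, a) * es h (f0^[7 - expo z] 1) =
        (h.emb (1, a))⁻¹ := by
      rw [← hT, hq]
      calc g⁻¹ * h.t * g * (g⁻¹ * y * g) * (g⁻¹ * h.t * g) = g⁻¹ * (h.t * y * h.t) * g := by group
        _ = (g⁻¹ * y * g)⁻¹ := by rw [hyt]; group
    rw [es, ← map_mul, ← map_mul, ← map_inv] at e1
    exact congrArg Prod.snd (h.emb_injective e1)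
  -- the candidate
  have finish : ∀ (c : Fin 4) (i : Fin 5), expo (if (c : ℕ) < 2 then 0 else 1) = expo z →
      a = cand c ^ (i : ℕ) → ∃ j : Fin 4, prodW (gg h n) (lastW j) = 1 := by
    intro c i he hi
    refine ⟨c, last_holds h n hn hr hact c ?_⟩
    rw [he, ← eg]
    have hc5 : cand c ^ 5 = 1 := by
      have : ∀ c : Fin 4, cand c ^ 5 = 1 := by decide +kernel
      exact this c
    have hi0 : ¬ 5 ∣ (i : ℕ) := fun hd => by
      have h0 := Nat.eq_zero_of_dvd_of_lt hd i.2
      rw [h0, pow_zero] at hi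
      exact ha1 hi
    obtain ⟨l, hl⟩ := five_root hc5 hi0
    have : g * h.emb (1, cand c) * g⁻¹ = y ^ l := by
      rw [hyq, conj_pow, ← map_pow, Prod.pow_mk, one_pow, hi, hl]
    rw [this]
    exact hry.pow_right l
  fin_cases z
  · obtain ⟨i, hi | hi⟩ := (cand_cases a ha5 ha1).1 hinv
    exacts [finish 0 i rfl hi, finish 1 i rfl hi]
  · obtain ⟨i, hi | hi⟩ := (cand_cases a ha5 ha1).2 hinv
    exacts [finish 2 i rfl hi, finish 3 i rfl hi]

omit hg [Finite G] [IsSimpleGroup G] in
theorem gg_inv (g : ℕ) : gg h n g * gg h n (case1.inv g) = 1 := by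
  rw [Cert.inv, invs_eq]
  have e : ∀ g g' : ℕ, genQ g * genQ g' = 1 → h.emb (genQ g) * h.emb (genQ g') = 1 :=
    fun g g' e => by rw [← map_mul, e, map_one]
  match g with
  | 0 => exact e 0 0 (by decide +kernel)
  | 1 => exact e 1 2 (by decide +kernel)
  | 2 => exact e 2 1 (by decide +kernel)
  | 3 => exact e 3 4 (by decide +kernel)
  | 4 => exact e 4 3 (by decide +kernel)
  | 5 => exact mul_inv_cancel n
  | 6 => exact inv_mul_cancel n
  | k + 7 => simp [gg, genQ]

/-- Only the second case is possible. -/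
theorem case1_holds : prodW (gg h n) (lastW 1) = 1 := by
  obtain ⟨j, hj⟩ := exists_case h n hn hr hact hg
  have small : ∀ (C : Cert), C.Complete → C.K = 7 → C.invs = case1.invs → C.N = 1 →
      C.subs = [[0], [1], [3]] → C.rels = commonW ++ [lastW j] → False := by
    intro C hC hK hI hN hS hR
    have m : Model C h.emb.range (gg h n) :=
      { gen_K := by rw [hK]; simp [gg, genQ]
        inv_mul := fun g => by
          rw [show C.inv g = case1.inv g by rw [Cert.inv, Cert.inv, hI]]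
          exact gg_inv h n hn hr hact g
        rel := fun w hw => by
          rw [hR] at hw
          rcases List.mem_append.mp hw with hw | hw
          · exact common_holds h n hn hr hact w hw
          · rw [List.mem_singleton] at hw; rw [hw]; exact hj
        sub := fun w hw => by
          rw [hS] at hw
          rw [gg_small h n]
          · exact ⟨_, rfl⟩
          · intro g hg'
            fin_cases hw <;> simp at hg' <;> omega }
    obtain ⟨i, hi, hmem⟩ := exists_coset hC m (x := n)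
      (Subgroup.subset_closure ⟨5, by rw [hK]; norm_num, rfl⟩)
    obtain rfl : i = 0 := by omega
    rw [coreRep, hC.nd_zero, psi_zero, inv_one, mul_one] at hmem
    have h1 := Subgroup.orderOf_dvd_natCard _ hmem
    rw [hn, Nat.card_congr (MonoidHom.ofInjective h.emb_injective).toEquiv.symm, Nat.card_prod,
      card_A5, Nat.card_eq_fintype_card] at h1
    norm_num at h1
  fin_cases j
  · exact (small case0 case0_complete rfl rfl rfl rfl rels_eq.1).elim
  · exact hj
  · exact (small case2 case2_complete rfl rfl rfl rfl rels_eq.2.2.1).elim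
  · exact (small case3 case3_complete rfl rfl rfl rfl rels_eq.2.2.2).elim

/-- The presented group is isomorphic to the group. -/
theorem pres_equiv : Nonempty (Pres ≃* G) := by
  classical
  haveI : Fact (Nat.Prime 2) := ⟨Nat.prime_two⟩
  let f : Fin 4 → G := ![gg h n 0, gg h n 1, gg h n 3, gg h n 5]
  have hf : ∀ g, g < 7 → FreeGroup.lift f (free4 g) = gg h n g := by
    intro g hg'
    have hI := fun g => inv_eq_of_mul_eq_one_right (gg_inv h n hn hr hact g)
    match g, hg' with
    | 0, _ => exact FreeGroup.lift_apply_of ..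
    | 1, _ => exact FreeGroup.lift_apply_of ..
    | 2, _ => exact ((map_inv _ _).trans (congrArg _ FreeGroup.lift_apply_of)).trans (hI 1)
    | 3, _ => exact FreeGroup.lift_apply_of ..
    | 4, _ => exact ((map_inv _ _).trans (congrArg _ FreeGroup.lift_apply_of)).trans (hI 3)
    | 5, _ => exact FreeGroup.lift_apply_of ..
    | 6, _ => exact (map_inv _ _).trans (congrArg _ FreeGroup.lift_apply_of)
  have hrels : ∀ x ∈ {x : FreeGroup (Fin 4) | ∃ w ∈ case1.rels, prodW free4 w = x},
      FreeGroup.lift f x = 1 := by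
    rintro _ ⟨w, hw, rfl⟩
    have hlt : ∀ w ∈ case1.rels, ∀ g ∈ w, g < 7 := by decide +kernel
    rw [map_prodW, prodW_congr fun g hg' => hf g (hlt w hw g hg')]
    rw [rels_eq.2.1] at hw
    rcases List.mem_append.mp hw with hw | hw
    · exact common_holds h n hn hr hact w hw
    · rw [List.mem_singleton] at hw; rw [hw]; exact case1_holds h n hn hr hact hg
  let φ : Pres →* G := PresentedGroup.toGroup hrels
  set M := φ.range with hM
  have hfM : ∀ i, f i ∈ M := fun i => ⟨PresentedGroup.of i, PresentedGroup.toGroup.of hrels⟩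
  have hnM : n ∈ M := hfM 3
  have hesM : ∀ x, es h x ∈ M := fun x => by
    by_cases hx : x = 0
    · subst hx; rw [es, el_facts.2.2.2.1, map_one]; exact one_mem M
    · obtain ⟨i, rfl⟩ := orbit_facts.1 x hx
      rw [← conj_point h n hn hr hact, es_one]
      refine mul_mem (mul_mem (pow_mem hnM _) ?_) (inv_mem (pow_mem hnM _))
      exact h.emb_zb ▸ hfM 0
  have hEM : ∀ q, h.emb q ∈ M := fun q => by
    obtain ⟨x, k, l, rfl⟩ := cover q
    rw [map_mul, map_mul, map_pow, map_pow]
    exact mul_mem (mul_mem (hesM x) (pow_mem (hfM 1) _)) (pow_mem (hfM 2) _)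
  have h840 : 840 ∣ Nat.card M := by
    refine Nat.Coprime.mul_dvd_of_dvd_of_dvd (show Nat.Coprime 120 7 by norm_num) ?_
      (hn ▸ M.orderOf_dvd_natCard hnM)
    rw [← h.card_centralizer]
    refine Subgroup.card_dvd_of_le fun u hu => ?_
    obtain ⟨q, rfl⟩ := h.exists_emb (Subgroup.mem_centralizer_singleton_iff.mp hu).symm
    exact hEM q
  -- eight conjugates of `t`
  have h960 : 960 ≤ Nat.card M := by
    let a : Fin 7 ⊕ Unit → M :=
      Sum.elim (fun i => ⟨n ^ (i : ℕ), pow_mem hnM _⟩)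
        fun _ => ⟨h.emb (1, c5) * n, mul_mem (hEM _) hnM⟩
    let F : (Fin 7 ⊕ Unit) × (Z2 × A5) → M := fun p => a p.1 * ⟨h.emb p.2, hEM _⟩
    have hpt : ∀ (i : Fin 7 ⊕ Unit) (q : Z2 × A5), ((F (i, q) : M) : G) * h.t * ((F (i, q) : M) : G)⁻¹ =
        h.emb (Sum.elim (fun j : Fin 7 => el (f0^[(j : ℕ)] 1))
          (fun _ => (1, c5) * el 2 * (1, c5)⁻¹) i) := by
      intro i q
      have e0 : h.emb q * h.t * (h.emb q)⁻¹ = es h 1 := by
        rw [(h.emb_comm q).symm.eq, mul_inv_cancel_right, es_one]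
      show ((a i : M) : G) * h.emb q * h.t * (((a i : M) : G) * h.emb q)⁻¹ = _
      rw [show ((a i : M) : G) * h.emb q * h.t * (((a i : M) : G) * h.emb q)⁻¹ =
        ((a i : M) : G) * (h.emb q * h.t * (h.emb q)⁻¹) * ((a i : M) : G)⁻¹ by group, e0]
      rcases i with j | u
      · exact conj_point h n hn hr hact 1 j
      · show h.emb (1, c5) * n * es h 1 * (h.emb (1, c5) * n)⁻¹ = h.emb ((1, c5) * el 2 * (1, c5)⁻¹)
        rw [mul_inv_rev, map_mul, map_mul, map_inv]
        simp only [mul_assoc]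
        rw [← mul_assoc n, ← mul_assoc (n * _), hact, orbit_facts.2.2.1]
        rfl
    have hFi : Function.Injective F := by
      rintro ⟨i, q⟩ ⟨i', q'⟩ e
      have e1 := hpt i q
      rw [e, hpt] at e1
      have e2 := h.emb_injective e1
      have : i = i' := by
        rcases i with j | ⟨⟩ <;> rcases i' with j' | ⟨⟩
        · exact congrArg Sum.inl (orbit_facts.2.1 _ _ (el_facts.1 _ _ e2.symm))
        · exact absurd e2 (orbit_facts.2.2.2.2.2.1 j)
        · exact absurd e2.symm (orbit_facts.2.2.2.2.2.1 j')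
        · rfl
      subst this
      have e3 : a i * ⟨h.emb q, hEM q⟩ = a i * ⟨h.emb q', hEM q'⟩ := e
      have e4 : h.emb q = h.emb q' := congrArg (fun u : M => (u : G)) (mul_left_cancel e3)
      exact Prod.ext rfl (h.emb_injective e4)
    have := Nat.card_le_card_of_injective F hFi
    rwa [Nat.card_prod, Nat.card_sum, Nat.card_fin, Nat.card_unique, Nat.card_prod, card_A5,
      show Nat.card Z2 = 2 from Nat.card_zmod 2] at this
  -- the centralizers of the involutions of `M` lie in it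
  obtain ⟨S, eS, hS8⟩ := h.sylow_facts
  have hSe : ∀ s ∈ (S : Subgroup G), ∃ x, es h x = s := fun s hs => by
    rw [eS] at hs
    obtain ⟨q, hq, rfl⟩ := hs
    obtain ⟨x, rfl⟩ := (el_range q).mp hq
    exact ⟨x, rfl⟩
  have hSM : (S : Subgroup G) ≤ M := fun s hs => by
    obtain ⟨x, rfl⟩ := hSe s hs; exact hesM x
  have hconj : ∀ u ∈ M, orderOf u = 2 → ∃ c ∈ M, c * h.t * c⁻¹ = u := by
    intro u hu ho
    obtain ⟨Q, hQ⟩ := IsPGroup.exists_le_sylow (IsPGroup.of_card (n := 1)
      (show Nat.card (Subgroup.zpowers (⟨u, hu⟩ : M)) = 2 ^ 1 by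
        rw [Nat.card_zpowers, Subgroup.orderOf_mk, ho, pow_one]) :
          IsPGroup 2 (Subgroup.zpowers (⟨u, hu⟩ : M)))
    obtain ⟨g, hg'⟩ := MulAction.exists_smul_eq M Q (S.subtype hSM)
    have hgu : g * ⟨u, hu⟩ * g⁻¹ ∈ ((S.subtype hSM : Sylow 2 M) : Subgroup M) := by
      rw [← hg', Sylow.coe_subgroup_smul]
      exact ⟨_, hQ (Subgroup.mem_zpowers _), rfl⟩
    obtain ⟨x, hx⟩ := hSe _ (show (g : G) * u * (g : G)⁻¹ ∈ (S : Subgroup G) from hgu)
    have hx0 : x ≠ 0 := fun e => by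
      rw [e, es, el_facts.2.2.2.1, map_one] at hx
      rw [conj_eq_one_iff.mp hx.symm, orderOf_one] at ho
      norm_num at ho
    obtain ⟨i, rfl⟩ := orbit_facts.1 x hx0
    rw [← conj_point h n hn hr hact, es_one] at hx
    refine ⟨(g : G)⁻¹ * n ^ (i : ℕ), mul_mem (inv_mem g.2) (pow_mem hnM _), ?_⟩
    rw [show (g : G)⁻¹ * n ^ (i : ℕ) * h.t * ((g : G)⁻¹ * n ^ (i : ℕ))⁻¹ =
      (g : G)⁻¹ * (n ^ (i : ℕ) * h.t * (n ^ (i : ℕ))⁻¹) * g by group, hx]
    group
  -- the Sylow subgroup is semiregular outside the trivial coset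
  have hfix : ∀ s ∈ (S : Subgroup G), s ≠ 1 → ∀ g : G, g⁻¹ * s * g ∈ M → g ∈ M := by
    intro s hs hs1 g hg'
    have ho : orderOf (g⁻¹ * s * g) = 2 := by
      rw [show g⁻¹ * s * g = MulAut.conj g⁻¹ s by simp [MulAut.conj_apply], MulEquiv.orderOf_eq]
      obtain ⟨x, rfl⟩ := hSe s hs
      exact orderOf_eq_prime (by rw [pow_two]; exact es_sq h x) hs1
    obtain ⟨c, hcM, hc⟩ := hconj _ hg' ho
    obtain ⟨x, rfl⟩ := hSe s hs
    have hx0 : x ≠ 0 := fun e => hs1 (by rw [e, es, el_facts.2.2.2.1, map_one])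
    obtain ⟨i, rfl⟩ := orbit_facts.1 x hx0
    rw [← conj_point h n hn hr hact, es_one] at hc
    have hcomm : Commute h.t ((n ^ (i : ℕ))⁻¹ * (g * c)) := by
      have e1 : (n ^ (i : ℕ))⁻¹ * (g * c) * h.t * ((n ^ (i : ℕ))⁻¹ * (g * c))⁻¹ = h.t := by
        calc (n ^ (i : ℕ))⁻¹ * (g * c) * h.t * ((n ^ (i : ℕ))⁻¹ * (g * c))⁻¹
            = (n ^ (i : ℕ))⁻¹ * (g * (c * h.t * c⁻¹) * g⁻¹) * n ^ (i : ℕ) := by group
          _ = h.t := by rw [hc]; group
      exact (mul_inv_eq_iff_eq_mul.mp e1).symm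
    obtain ⟨q, hq⟩ := h.exists_emb hcomm
    have : g = n ^ (i : ℕ) * h.emb q * c⁻¹ := by rw [hq]; group
    rw [this]
    exact mul_mem (mul_mem (pow_mem hnM _) (hEM q)) (inv_mem hcM)
  -- the index
  have htop : M = ⊤ := by
    letI := Fintype.ofFinite (G ⧸ M)
    letI := Fintype.ofFinite (S : Subgroup G)
    letI := Fintype.ofFinite (MulAction.orbitRel.Quotient (S : Subgroup G) (G ⧸ M))
    have hB := MulAction.sum_card_fixedBy_eq_card_orbits_mul_card_group
      (G := (S : Subgroup G)) (X := G ⧸ M)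
    have h1 : ∀ s : (S : Subgroup G), s ≠ 1 →
        Fintype.card (MulAction.fixedBy (G ⧸ M) s) = 1 := fun s hs => by
      rw [Fintype.card_eq_one_iff]
      refine ⟨⟨((1 : G) : G ⧸ M), ?_⟩, fun ⟨c, hc⟩ => Subtype.ext ?_⟩
      · show (((s : G) * 1 : G) : G ⧸ M) = _
        rw [QuotientGroup.eq]
        simpa using hSM s.2
      · induction c using QuotientGroup.induction_on with
        | H g =>
          change (((s : G) * g : G) : G ⧸ M) = _ at hc
          rw [QuotientGroup.eq] at hc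
          show (g : G ⧸ M) = ((1 : G) : G ⧸ M)
          rw [QuotientGroup.eq]
          simp only [mul_one]
          refine inv_mem (hfix s s.2 (fun e => hs (Subtype.ext e)) g ?_)
          have := inv_mem hc
          simpa [mul_assoc] using this
    rw [Fintype.sum_eq_add_sum_compl (1 : (S : Subgroup G)),
      Finset.sum_congr rfl (fun s hs => h1 s (by simpa using hs))] at hB
    have hone : Fintype.card (MulAction.fixedBy (G ⧸ M) (1 : (S : Subgroup G))) = M.index := by
      rw [Subgroup.index, Nat.card_eq_fintype_card]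
      exact Fintype.card_congr ((Equiv.setCongr (by ext; simp)).trans (Equiv.Set.univ _))
    rw [hone, Finset.sum_const, Finset.card_compl, Finset.card_singleton, smul_eq_mul, mul_one,
      ← Nat.card_eq_fintype_card (α := (S : Subgroup G)), hS8] at hB
    simp at hB
    have h2 := M.card_mul_index
    rw [hg] at h2
    obtain ⟨d, hd⟩ := h840
    have h3 : d * M.index = 209 := by nlinarith
    have h4 : M.index ∣ 209 := ⟨d, by rw [mul_comm]; exact h3.symm⟩
    have key : ∀ i : Fin 183, (i : ℕ) ∣ 209 → ((i : ℕ) + 7) % 8 = 0 → (i : ℕ) = 1 := by decide +kernel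
    rw [← Subgroup.index_eq_one]
    have hlt : M.index < 183 := by nlinarith
    exact key ⟨M.index, hlt⟩ h4 (show (M.index + 7) % 8 = 0 by omega)
  have hsurj : Function.Surjective φ := MonoidHom.range_eq_top.mp htop
  refine ⟨MulEquiv.ofBijective φ ?_⟩
  rw [Nat.bijective_iff_surjective_and_card]
  refine ⟨hsurj, le_antisymm (pres_bound.2.trans hg.ge) (Nat.card_le_card_of_surjective φ hsurj)⟩

end CfsgLib.JOneUnique
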