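import Cfsg.Agent.S0448
import Cfsg.Agent.Lib.JOneUnique.Main

/-!
The first Janko group is determined by the centralizer of an involution.
-/

set_option autoImplicit false
set_option Elab.async false

namespace CfsgLib.JOneUnique

open Cfsg Equiv CfsgLib.JOneOrder

/-- Every group of this kind is the presented group. -/
theorem equiv_pres {G : Type*} [Group G] [Finite G] [IsSimpleGroup G] (t : G)
    (ht : Cfsg.IsTwoCentralInvolution t)
    (e : Subgroup.centralizer ({t} : Set G) ≃* Z2 × A5) : Nonempty (Pres ≃* G) := by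
  have hg : Nat.card G = 175560 := (Cfsg.Agent.S0448.result t ht e).2
  obtain ⟨h, n, -, hn, hr, hact⟩ := exists_seven (⟨t, ht, e⟩ : Hyp G)
  exact pres_equiv h n hn hr hact hg

/-- An involution of an abelian Sylow subgroup is central in a Sylow subgroup. -/
theorem twoCentral_of_abelian {G : Type*} [Group G] [Finite G] (S : Sylow 2 G)
    (hS : IsMulCommutative (S : Subgroup G)) {t : G} (ht : orderOf t = 2) :
    Cfsg.IsTwoCentralInvolution t := by
  haveI : Fact (Nat.Prime 2) := ⟨Nat.prime_two⟩
  obtain ⟨P, hP⟩ := IsPGroup.exists_le_sylow (IsPGroup.of_card (n := 1)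
    (show Nat.card (Subgroup.zpowers t) = 2 ^ 1 by rw [Nat.card_zpowers, ht, pow_one]) :
      IsPGroup 2 (Subgroup.zpowers t))
  have htP : t ∈ (P : Subgroup G) := hP (Subgroup.mem_zpowers t)
  let e := Sylow.equiv P S
  refine ⟨ht, P, htP, fun x hx => ?_⟩
  have h1 := hS.is_comm.comm (e ⟨x, hx⟩) (e ⟨t, htP⟩)
  rw [← map_mul, ← map_mul] at h1
  exact congrArg Subtype.val (e.injective h1)

/-- In a group of order 175560 the involution of such a centralizer is 2-central. -/
theorem twoCentral_of_card {G : Type*} [Group G] [Finite G] (hg : Nat.card G = 175560) {t : G}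
    (ht : orderOf t = 2) (e : Subgroup.centralizer ({t} : Set G) ≃* Z2 × A5) :
    Cfsg.IsTwoCentralInvolution t := by
  haveI : Fact (Nat.Prime 2) := ⟨Nat.prime_two⟩
  obtain ⟨T⟩ : Nonempty (Sylow 2 (Subgroup.centralizer ({t} : Set G))) := inferInstance
  set Q := (T : Subgroup (Subgroup.centralizer ({t} : Set G))).map
    (Subgroup.centralizer ({t} : Set G)).subtype
  have f8 : ∀ n m : ℕ, n = 8 * m → ¬ 2 ∣ m → 2 ^ n.factorization 2 = 8 := by
    intro n m hn hm
    have hm0 : m ≠ 0 := fun e => hm (e ▸ dvd_zero _)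
    rw [hn, Nat.factorization_mul (by norm_num) hm0, Finsupp.add_apply,
      show (8 : ℕ) = 2 ^ 3 by norm_num, Nat.Prime.factorization_pow Nat.prime_two,
      Finsupp.single_eq_same, Nat.factorization_eq_zero_of_not_dvd hm]
  have hQ : Nat.card Q = 2 ^ (Nat.card G).factorization 2 := by
    rw [Subgroup.card_map_of_injective Subtype.val_injective, T.card_eq_multiplicity,
      Nat.card_congr e.toEquiv, Nat.card_prod, card_A5, show Nat.card Z2 = 2 from Nat.card_zmod 2,
      hg, f8 _ 15 rfl (by norm_num), f8 _ 21945 rfl (by norm_num)]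
  have htC : t ∈ Subgroup.centralizer ({t} : Set G) :=
    Subgroup.mem_centralizer_singleton_iff.mpr rfl
  have hcen : ∀ x ∈ Q, x * t = t * x := by
    rintro _ ⟨a, -, rfl⟩
    exact Subgroup.mem_centralizer_singleton_iff.mp a.2
  have htT : (⟨t, htC⟩ : Subgroup.centralizer ({t} : Set G)) ∈ (T : Subgroup _) := by
    refine mem_of_normalizer T (mem_normalizer_of_conj fun z hz => ?_) (k := 1)
      (by rw [Subgroup.orderOf_mk, ht, pow_one])
    rwa [show (⟨t, htC⟩ : Subgroup.centralizer ({t} : Set G)) * z * (⟨t, htC⟩)⁻¹ = z from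
      Subtype.ext (show t * (z : G) * t⁻¹ = z by
        rw [← Subgroup.mem_centralizer_singleton_iff.mp z.2, mul_inv_cancel_right])]
  exact ⟨ht, Sylow.ofCard Q hQ, ⟨_, htT, rfl⟩, hcen⟩

end CfsgLib.JOneUnique
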